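import Groth.Agent.GrpSchLib.HomSplitLocal

/-!
# A multiplicative character with values in a group algebra is locally a monomial
-/

set_option autoImplicit false
set_option linter.style.haveILetI false
set_option backward.isDefEq.respectTransparency false
set_option backward.isDefEq.respectTransparency.types false

universe u

open CategoryTheory AlgebraicGeometry

namespace Groth.Agent.HomScheme

open GrpSchLib

/-- Near each prime a multiplicative character into `R[M]` is given by one homomorphism of groups. -/
theorem exists_monomial_near {R : Type u} [CommRing R] {MH MQ : Type} [AddCommGroup MH] [AddCommGroup MQ]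
    [AddGroup.FG MQ] (v : Multiplicative MQ →* MonoidAlgebra R (Multiplicative MH))
    (hv : ∀ m, MonoidAlgebra.mapDomainRingHom R (MonoidHom.inl (Multiplicative MH) (Multiplicative MH)) (v m) *
      MonoidAlgebra.mapDomainRingHom R (MonoidHom.inr (Multiplicative MH) (Multiplicative MH)) (v m) =
      MonoidAlgebra.mapDomainRingHom R ((MonoidHom.id (Multiplicative MH)).prod (MonoidHom.id (Multiplicative MH))) (v m))
    (p : Ideal R) [p.IsPrime] :
    ∃ d ∉ p, ∃ φ : MQ →+ MH, ∀ (T : Type u) [CommRing T] [Algebra R T], IsUnit (algebraMap R T d) →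
      ∀ m, MonoidAlgebra.mapRingHom (Multiplicative MH) (algebraMap R T) (v m) =
        MonoidAlgebra.single (AddMonoidHom.toMultiplicative φ m) 1 := by
  classical
  let C1 := MonoidAlgebra R (Multiplicative MH)
  let τ₁ := MonoidHom.inl (Multiplicative MH) (Multiplicative MH)
  let τ₂ := MonoidHom.inr (Multiplicative MH) (Multiplicative MH)
  let τ₃ := (MonoidHom.id (Multiplicative MH)).prod (MonoidHom.id (Multiplicative MH))
  -- at the local ring the image characters are monomials
  let Rp := Localization.AtPrime p
  let ψ : C1 →+* MonoidAlgebra Rp (Multiplicative MH) := MonoidAlgebra.mapRingHom _ (algebraMap R Rp)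
  have hcomm : ∀ (τ : Multiplicative MH →* Multiplicative MH × Multiplicative MH) (z : C1),
      MonoidAlgebra.mapDomainRingHom Rp τ (ψ z) =
        MonoidAlgebra.mapRingHom _ (algebraMap R Rp) (MonoidAlgebra.mapDomainRingHom R τ z) := fun τ z => by
    induction z using MonoidAlgebra.induction_linear with
    | zero => simp
    | add a b ha hb => rw [map_add, map_add, map_add, map_add, ha, hb]
    | single a r =>
      simp only [ψ, MonoidAlgebra.mapDomainRingHom_apply, MonoidAlgebra.mapRingHom_single, MonoidAlgebra.mapDomain_single]
      erw [MonoidAlgebra.mapRingHom_single]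
      exact MonoidAlgebra.mapDomain_single
  obtain ⟨φ, hφ⟩ := SubgroupFactor.exists_monomial ((ψ : C1 →* MonoidAlgebra Rp (Multiplicative MH)).comp v) fun m => by
    show MonoidAlgebra.mapDomainRingHom Rp τ₁ (ψ (v m)) * MonoidAlgebra.mapDomainRingHom Rp τ₂ (ψ (v m)) = _
    rw [hcomm, hcomm, ← map_mul, hv]
    exact (hcomm τ₃ (v m)).symm
  haveI : Group.FG (Multiplicative MQ) := GroupFG.iff_add_fg.mpr ‹_›
  obtain ⟨G₀, hG₀⟩ := (Group.FG.out : (⊤ : Subgroup (Multiplicative MQ)).FG)
  let e : Multiplicative MQ → R := fun m => (v m).coeff (AddMonoidHom.toMultiplicative φ m)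
  refine ⟨∏ m ∈ G₀, e m, fun h => ?_, φ, fun T _ _ hd => ?_⟩
  · obtain ⟨m, -, hm⟩ := Ideal.IsPrime.prod_mem_iff.mp h
    have h1 := congrArg (fun z : MonoidAlgebra Rp (Multiplicative MH) => z.coeff (AddMonoidHom.toMultiplicative φ m)) (hφ m)
    change (MonoidAlgebra.mapRingHom _ (algebraMap R Rp) (v m)).coeff (AddMonoidHom.toMultiplicative φ m) = _ at h1
    rw [MonoidAlgebra.coeff_mapRingHom, MonoidAlgebra.coeff_single, Finsupp.single_eq_same] at h1
    have h2 : e m ∈ p.primeCompl := by
      rw [← IsLocalization.AtPrime.isUnit_to_map_iff Rp p]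
      rw [show algebraMap R Rp (e m) = 1 from h1]
      exact isUnit_one
    exact h2 hm
  -- over `T` the coefficient is a unit idempotent
  let ψT : C1 →ₐ[R] MonoidAlgebra T (Multiplicative MH) :=
    { MonoidAlgebra.mapRingHom (Multiplicative MH) (algebraMap R T) with
      commutes' := fun s => MonoidAlgebra.mapRingHom_single _ _ _ }
  have hgen : ∀ m ∈ G₀, ψT (v m) = MonoidAlgebra.single (AddMonoidHom.toMultiplicative φ m) 1 := by
    intro m hm
    set n := AddMonoidHom.toMultiplicative φ m
    have hu : IsUnit (algebraMap R T (e m)) := by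
      rw [map_prod] at hd
      exact isUnit_of_dvd_unit (Finset.dvd_prod_of_mem (fun i => algebraMap R T (e i)) hm) hd
    have hmul : ∀ k, (v m).coeff n * (v m).coeff k = if n = k then (v m).coeff n else 0 := by
      intro k
      have h := congrArg (fun z : MonoidAlgebra R (Multiplicative MH × Multiplicative MH) => z.coeff (n, k)) (hv m)
      have hl : ∀ a b : C1, (MonoidAlgebra.mapDomainRingHom R τ₁ a * MonoidAlgebra.mapDomainRingHom R τ₂ b).coeff (n, k) =
          a.coeff n * b.coeff k := by
        intro a b
        induction a using MonoidAlgebra.induction_linear with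
        | zero => simp
        | add x y hx hy =>
          simp only [map_add, add_mul, MonoidAlgebra.coeff_add, Finsupp.add_apply, hx, hy]
        | single a r =>
          induction b using MonoidAlgebra.induction_linear with
          | zero => simp
          | add x y hx hy =>
            simp only [map_add, mul_add, MonoidAlgebra.coeff_add, Finsupp.add_apply, hx, hy]
          | single b t =>
            simp only [MonoidAlgebra.mapDomainRingHom_apply, MonoidAlgebra.mapDomain_single,
              MonoidAlgebra.single_mul_single, MonoidAlgebra.coeff_single, τ₁, τ₂, MonoidHom.inl_apply,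
              MonoidHom.inr_apply, Prod.mk_mul_mk, _root_.mul_one, _root_.one_mul, Finsupp.single_apply, Prod.mk.injEq]
            by_cases h1 : a = n <;> by_cases h2 : b = k <;> simp [h1, h2]
      replace h := (hl _ _).symm.trans h
      rw [h]
      split_ifs with hnk
      · subst hnk
        exact Finsupp.mapDomain_apply (f := τ₃) (fun a b h => congrArg Prod.fst h) _ _
      · exact Finsupp.mapDomain_of_notMem_range _ _ fun ⟨a, ha⟩ =>
          hnk ((congrArg Prod.fst ha).symm.trans (congrArg Prod.snd ha))
    have h1 : algebraMap R T ((v m).coeff n) = 1 := by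
      have h := congrArg (algebraMap R T) (hmul n)
      rw [if_pos rfl, map_mul] at h
      exact hu.mul_left_cancel (h.trans (_root_.mul_one _).symm)
    refine MonoidAlgebra.ext (Finsupp.ext fun k => ?_)
    show (MonoidAlgebra.mapRingHom _ (algebraMap R T) (v m)).coeff k = _
    rw [MonoidAlgebra.coeff_mapRingHom, MonoidAlgebra.coeff_single, Finsupp.single_apply]
    split_ifs with hk
    · rw [← hk]; exact h1
    · have h := congrArg (algebraMap R T) (hmul k)
      rw [if_neg hk, map_mul, h1, _root_.one_mul, map_zero] at h
      exact h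
  let w₁ : Multiplicative MQ →* MonoidAlgebra T (Multiplicative MH) := (ψT : C1 →* _).comp v
  let w₂ : Multiplicative MQ →* MonoidAlgebra T (Multiplicative MH) :=
    (MonoidAlgebra.of T (Multiplicative MH)).comp (AddMonoidHom.toMultiplicative φ)
  have hw : w₁ = w₂ := MonoidHom.eq_of_eqOn_dense hG₀ fun m hm => hgen m hm
  exact fun m => DFunLike.congr_fun hw m

end Groth.Agent.HomScheme
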