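import Groth.Agent.HomScheme.Alg
import Groth.Agent.RepLocal.Glue
import Mathlib.AlgebraicGeometry.Morphisms.Finite
import Mathlib.AlgebraicGeometry.Morphisms.FlatDescent
import Mathlib.AlgebraicGeometry.Morphisms.FinitePresentation
import Mathlib.AlgebraicGeometry.Morphisms.Flat
import Mathlib.RingTheory.Flat.EquationalCriterion
import Mathlib.RingTheory.Finiteness.ModuleFinitePresentation

/-!
# The scheme of morphisms from a finite flat scheme to an affine scheme over `S`
-/

set_option autoImplicit false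
set_option linter.style.haveILetI false
set_option backward.isDefEq.respectTransparency false
set_option backward.isDefEq.respectTransparency.types false
set_option backward.defeqAttrib.useBackward true

universe u

open CategoryTheory CategoryTheory.Limits MonoidalCategory CartesianMonoidalCategory AlgebraicGeometry Opposite
  TensorProduct

namespace Groth.Agent.HomScheme

variable {S : Scheme.{u}} (X Y : Over S)

/-- `T ↦ Hom_S(X ×_S T, Y)`. -/
noncomputable def homF : (Over S)ᵒᵖ ⥤ Type u := (MonoidalCategory.tensorLeft X).op ⋙ yoneda.obj Y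

lemma res_homF {T T' : Over S} (g : T' ⟶ T) (φ : X ⊗ T ⟶ Y) :
    RepLocal.res (homF X Y) g φ = (X ◁ g) ≫ φ := rfl

theorem isLocal_homF : RepLocal.IsLocal (homF X Y) := by
  let P : ∀ (T : Over S), T.left.Opens → (X ⊗ T).left.Opens := fun T U => (snd X T).left ⁻¹ᵁ U
  have hj : ∀ (T : Over S) (U : T.left.Opens), ∃ (j : RepLocal.opOver (X ⊗ T) (P T U) ⟶ X ⊗ RepLocal.opOver T U),
      j ≫ (X ◁ RepLocal.opIncl T U) = RepLocal.opIncl (X ⊗ T) (P T U) := by
    intro T U
    have hr : Set.range (RepLocal.opIncl (X ⊗ T) (P T U) ≫ snd X T).left ⊆ Set.range U.ι := by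
      rintro _ ⟨x, rfl⟩
      rw [Scheme.Opens.range_ι]
      show ((P T U).ι ≫ (snd X T).left) x ∈ U
      rw [Scheme.Hom.comp_apply]
      exact x.2
    let l : RepLocal.opOver (X ⊗ T) (P T U) ⟶ RepLocal.opOver T U :=
      Over.homMk (IsOpenImmersion.lift U.ι (RepLocal.opIncl (X ⊗ T) (P T U) ≫ snd X T).left hr) (by
        show IsOpenImmersion.lift U.ι _ hr ≫ U.ι ≫ T.hom = _
        rw [IsOpenImmersion.lift_fac_assoc]
        exact Over.w _)
    refine ⟨lift (RepLocal.opIncl (X ⊗ T) (P T U) ≫ fst X T) l, ?_⟩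
    apply CartesianMonoidalCategory.hom_ext
    · rw [Category.assoc, whiskerLeft_fst, lift_fst]
    · rw [Category.assoc, whiskerLeft_snd, lift_snd_assoc]
      exact Over.OverMorphism.ext (IsOpenImmersion.lift_fac _ _ _)
  choose j hj using hj
  have hmono : ∀ (T : Over S) (U : T.left.Opens) {Z : Over S} {a b : Z ⟶ X ⊗ RepLocal.opOver T U},
      a ≫ (X ◁ RepLocal.opIncl T U) = b ≫ (X ◁ RepLocal.opIncl T U) → a = b := by
    intro T U Z a b e
    apply CartesianMonoidalCategory.hom_ext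
    · have := congrArg (· ≫ fst X T) e
      simpa using this
    · have := congrArg (fun m => (m ≫ snd X T).left) e
      simp only [Category.assoc, whiskerLeft_snd] at this
      refine Over.OverMorphism.ext ((cancel_mono U.ι).mp ?_)
      simpa using this
  have hl : ∀ (T : Over S) (U : T.left.Opens), ∃ l : X ⊗ RepLocal.opOver T U ⟶ RepLocal.opOver (X ⊗ T) (P T U),
      l ≫ RepLocal.opIncl (X ⊗ T) (P T U) = X ◁ RepLocal.opIncl T U := by
    intro T U
    have hr : Set.range (X ◁ RepLocal.opIncl T U).left ⊆ Set.range (P T U).ι := by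
      rintro _ ⟨x, rfl⟩
      rw [Scheme.Opens.range_ι]
      show (snd X T).left ((X ◁ RepLocal.opIncl T U).left x) ∈ U
      rw [← Scheme.Hom.comp_apply, ← Over.comp_left, whiskerLeft_snd, Over.comp_left, Scheme.Hom.comp_apply]
      exact ((snd X (RepLocal.opOver T U)).left x).2
    refine ⟨Over.homMk (IsOpenImmersion.lift (P T U).ι _ hr) ?_, Over.OverMorphism.ext (IsOpenImmersion.lift_fac _ _ _)⟩
    show IsOpenImmersion.lift (P T U).ι _ hr ≫ (P T U).ι ≫ (X ⊗ T).hom = _
    rw [IsOpenImmersion.lift_fac_assoc]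
    exact Over.w _
  choose l hl using hl
  have hlj : ∀ T U, l T U ≫ j T U = 𝟙 _ := fun T U => hmono T U (by rw [Category.assoc, hj, hl, Category.id_comp])
  refine ⟨fun T κ U hU φ ψ h => ?_, fun T κ U hU φ hφ => ?_⟩
  · refine RepLocal.hom_ext_opens (fun k => P T (U k)) (fun x => hU _) fun k => ?_
    rw [← hj T (U k), Category.assoc, Category.assoc]
    exact congrArg (j T (U k) ≫ ·) (h k)
  · obtain ⟨w, hw⟩ := RepLocal.exists_glue_hom (fun k => P T (U k)) (fun x => hU _)
      (fun k => j T (U k) ≫ φ k) (fun k k' => by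
        have hle : P T (U k) ⊓ P T (U k') ≤ P T (U k ⊓ U k') := fun x hx => hx
        have key : ∀ (m : κ) (le : U k ⊓ U k' ≤ U m) (le' : P T (U k) ⊓ P T (U k') ≤ P T (U m)),
            RepLocal.opMap (X ⊗ T) le' ≫ j T (U m) ≫ φ m =
              (RepLocal.opMap (X ⊗ T) hle ≫ j T (U k ⊓ U k')) ≫ (X ◁ RepLocal.opMap T le) ≫ φ m := by
          intro m le le'
          rw [← Category.assoc, ← Category.assoc]
          congr 1
          apply hmono T (U m)
          rw [Category.assoc, Category.assoc, Category.assoc, hj, RepLocal.opMap_incl, ← whiskerLeft_comp,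
            RepLocal.opMap_incl, hj, RepLocal.opMap_incl]
        rw [key k inf_le_left inf_le_left, key k' inf_le_right inf_le_right]
        exact congrArg ((RepLocal.opMap (X ⊗ T) hle ≫ j T (U k ⊓ U k')) ≫ ·) (hφ k k'))
    refine ⟨w, fun k => ?_⟩
    show (X ◁ RepLocal.opIncl T (U k)) ≫ w = φ k
    rw [← hl T (U k), Category.assoc, hw k, ← Category.assoc, hlj, Category.id_comp]

theorem exists_chart [IsFinite X.hom] [Flat X.hom] [LocallyOfFinitePresentation X.hom] [IsAffineHom Y.hom]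
    (U : S.affineOpens) :
    ∃ (M : Over S) (ξ : (homF X Y).obj (op M)) (g : M.left ⟶ U.1), RepLocal.IsUniv (homF X Y) U.1 M ξ ∧
      g ≫ U.1.ι = M.hom ∧ IsAffineHom g ∧ (LocallyOfFinitePresentation Y.hom → LocallyOfFinitePresentation g) ∧
      (LocallyOfFiniteType Y.hom → LocallyOfFiniteType g) := by
  obtain ⟨U, hU⟩ := U
  let R := Γ(S, U)
  have hX' : IsAffineOpen (X.hom ⁻¹ᵁ U) := hU.preimage X.hom
  have hY' : IsAffineOpen (Y.hom ⁻¹ᵁ U) := hU.preimage Y.hom
  let B := Γ(X.left, X.hom ⁻¹ᵁ U)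
  let C := Γ(Y.left, Y.hom ⁻¹ᵁ U)
  letI : Algebra R B := (X.hom.app U).hom.toAlgebra
  letI : Algebra R C := (Y.hom.app U).hom.toAlgebra
  haveI : Module.Finite R B := X.hom.finite_app U hU
  haveI : Module.Projective R B := by
    have h1 : (X.hom.app U).hom.Flat := by
      rw [Scheme.Hom.app_eq_appLE]
      exact HasRingHomProperty.appLE @Flat X.hom inferInstance ⟨U, hU⟩ ⟨_, hX'⟩ _
    have h2 : (X.hom.app U).hom.FinitePresentation := by
      rw [Scheme.Hom.app_eq_appLE]
      exact HasRingHomProperty.appLE @LocallyOfFinitePresentation X.hom inferInstance ⟨U, hU⟩ ⟨_, hX'⟩ _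
    haveI : Module.Flat R B := h1
    haveI : Algebra.FinitePresentation R B := h2
    haveI : Module.FinitePresentation R B := Module.FinitePresentation.of_finite_of_finitePresentation _ _
    exact Module.Flat.projective_of_finitePresentation
  obtain ⟨D, _, _, u, hfp, hft, huniv⟩ := exists_univ R B C
  let aB : CommRingCat.of R ⟶ CommRingCat.of B := CommRingCat.ofHom (algebraMap R B)
  let aC : CommRingCat.of R ⟶ CommRingCat.of C := CommRingCat.ofHom (algebraMap R C)
  have sqX : IsPullback hX'.fromSpec (Spec.map aB) X.hom hU.fromSpec := by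
    refine (IsOpenImmersion.isPullback _ _ _ _ ?_ ?_).flip
    · show hX'.fromSpec ≫ X.hom = Spec.map (X.hom.app U) ≫ hU.fromSpec
      rw [Scheme.Hom.app_eq_appLE, IsAffineOpen.SpecMap_appLE_fromSpec]
    · rw [IsAffineOpen.opensRange_fromSpec, IsAffineOpen.opensRange_fromSpec]
  have sqY : Spec.map aC ≫ hU.fromSpec = hY'.fromSpec ≫ Y.hom := by
    show Spec.map (Y.hom.app U) ≫ _ = _
    rw [Scheme.Hom.app_eq_appLE, IsAffineOpen.SpecMap_appLE_fromSpec]
  let TA : ∀ (A : Type u) [CommRing A] [Algebra R A], Over S := fun A _ _ =>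
    Over.mk (Spec.map (CommRingCat.ofHom (algebraMap R A)) ≫ hU.fromSpec)
  have hTA : ∀ (A : Type u) [CommRing A] [Algebra R A], RepLocal.InU U (TA A) := fun A _ _ x => by
    show (Spec.map (CommRingCat.ofHom (algebraMap R A)) ≫ hU.fromSpec) x ∈ U
    rw [Scheme.Hom.comp_apply]
    exact hU.range_fromSpec.le ⟨_, rfl⟩
  have sqA : ∀ (A : Type u) [CommRing A] [Algebra R A],
      IsPullback (Spec.map (CommRingCat.ofHom (Algebra.TensorProduct.includeLeftRingHom : B →+* B ⊗[R] A)) ≫ hX'.fromSpec)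
        (Spec.map (CommRingCat.ofHom (Algebra.TensorProduct.includeRight : A →ₐ[R] B ⊗[R] A).toRingHom))
        X.hom (TA A).hom := by
    intro A _ _
    have h1 : IsPullback (Spec.map (CommRingCat.ofHom (Algebra.TensorProduct.includeLeftRingHom : B →+* B ⊗[R] A)))
        (Spec.map (CommRingCat.ofHom (Algebra.TensorProduct.includeRight : A →ₐ[R] B ⊗[R] A).toRingHom))
        (Spec.map aB) (Spec.map (CommRingCat.ofHom (algebraMap R A))) :=
      IsPullback.of_iso_pullback ⟨by
          rw [← Spec.map_comp, ← Spec.map_comp]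
          congr 1
          exact CommRingCat.hom_ext (Algebra.TensorProduct.includeLeftRingHom_comp_algebraMap (R := R) (A := B) (B := A))⟩
        (pullbackSpecIso R B A).symm (pullbackSpecIso_inv_fst R B A) (pullbackSpecIso_inv_snd R B A)
    exact (h1.flip.paste_vert sqX.flip).flip
  let e : ∀ (A : Type u) [CommRing A] [Algebra R A], Spec (CommRingCat.of (B ⊗[R] A)) ≅ (X ⊗ TA A).left :=
    fun A _ _ => (sqA A).isoPullback
  have he1 : ∀ (A : Type u) [CommRing A] [Algebra R A], (e A).hom ≫ (fst X (TA A)).left =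
      Spec.map (CommRingCat.ofHom (Algebra.TensorProduct.includeLeftRingHom : B →+* B ⊗[R] A)) ≫ hX'.fromSpec :=
    fun A _ _ => (sqA A).isoPullback_hom_fst
  have he2 : ∀ (A : Type u) [CommRing A] [Algebra R A], (e A).hom ≫ (snd X (TA A)).left =
      Spec.map (CommRingCat.ofHom (Algebra.TensorProduct.includeRight : A →ₐ[R] B ⊗[R] A).toRingHom) :=
    fun A _ _ => (sqA A).isoPullback_hom_snd
  let Rel : ∀ (A : Type u) [CommRing A] [Algebra R A], (X ⊗ TA A ⟶ Y) → (C →ₐ[R] B ⊗[R] A) → Prop :=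
    fun A _ _ φ c => (e A).hom ≫ φ.left = Spec.map (CommRingCat.ofHom c.toRingHom) ≫ hY'.fromSpec
  have hbase : ∀ (A : Type u) [CommRing A] [Algebra R A], (e A).hom ≫ (X ⊗ TA A).hom =
      Spec.map (CommRingCat.ofHom (algebraMap R (B ⊗[R] A))) ≫ hU.fromSpec := by
    intro A _ _
    rw [← Over.w (snd X (TA A)), ← Category.assoc, he2]
    show _ ≫ Spec.map (CommRingCat.ofHom (algebraMap R A)) ≫ hU.fromSpec = _
    rw [← Spec.map_comp_assoc]
    congr 2
    ext r
    exact (Algebra.TensorProduct.includeRight (R := R) (A := B) (B := A)).commutes r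
  have toC : ∀ (A : Type u) [CommRing A] [Algebra R A] (φ : X ⊗ TA A ⟶ Y), ∃ c, Rel A φ c := by
    intro A _ _ φ
    have hr : Set.range ((e A).hom ≫ φ.left) ⊆ Set.range hY'.fromSpec := by
      rintro _ ⟨x, rfl⟩
      rw [hY'.range_fromSpec]
      show Y.hom (((e A).hom ≫ φ.left) x) ∈ U
      rw [← Scheme.Hom.comp_apply, Category.assoc, Over.w φ, hbase, Scheme.Hom.comp_apply]
      exact hU.range_fromSpec.le ⟨_, rfl⟩
    let q := Spec.preimage (IsOpenImmersion.lift hY'.fromSpec _ hr)
    have hq : Spec.map q ≫ hY'.fromSpec = (e A).hom ≫ φ.left := by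
      rw [Spec.map_preimage, IsOpenImmersion.lift_fac]
    refine ⟨{ q.hom with commutes' := fun r => ?_ }, hq.symm⟩
    have h1 : aC ≫ q = CommRingCat.ofHom (algebraMap R (B ⊗[R] A)) := by
      apply Spec.map_injective
      rw [← cancel_mono hU.fromSpec, Spec.map_comp, Category.assoc, sqY, reassoc_of% hq, Over.w φ, hbase]
    exact congrArg (fun m : CommRingCat.of R ⟶ CommRingCat.of (B ⊗[R] A) => m.hom r) h1
  have relC : ∀ (A : Type u) [CommRing A] [Algebra R A] (φ : X ⊗ TA A ⟶ Y) c c', Rel A φ c → Rel A φ c' → c = c' := by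
    intro A _ _ φ c c' h h'
    refine AlgHom.coe_ringHom_injective ?_
    have := Spec.map_injective ((cancel_mono hY'.fromSpec).mp (h.symm.trans h'))
    exact congrArg CommRingCat.Hom.hom this
  have relφ : ∀ (A : Type u) [CommRing A] [Algebra R A] (φ φ' : X ⊗ TA A ⟶ Y) c, Rel A φ c → Rel A φ' c → φ = φ' := by
    intro A _ _ φ φ' c h h'
    exact Over.OverMorphism.ext ((cancel_epi (e A).hom).mp (h.trans h'.symm))
  have toφ : ∀ (A : Type u) [CommRing A] [Algebra R A] (c : C →ₐ[R] B ⊗[R] A), ∃ φ, Rel A φ c := by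
    intro A _ _ c
    refine ⟨Over.homMk ((e A).inv ≫ Spec.map (CommRingCat.ofHom c.toRingHom) ≫ hY'.fromSpec) ?_, ?_⟩
    · rw [← cancel_epi (e A).hom, hbase, Category.assoc, Category.assoc, Iso.hom_inv_id_assoc, ← sqY,
        ← Spec.map_comp_assoc]
      congr 2
      ext r
      exact c.commutes r
    · show (e A).hom ≫ (e A).inv ≫ _ = _
      rw [Iso.hom_inv_id_assoc]
  let gA : ∀ {A A' : Type u} [CommRing A] [Algebra R A] [CommRing A'] [Algebra R A'], (A' →ₐ[R] A) → (TA A ⟶ TA A') :=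
    fun {A A'} _ _ _ _ v => Over.homMk (Spec.map (CommRingCat.ofHom v.toRingHom)) (by
      show Spec.map (CommRingCat.ofHom v.toRingHom) ≫ Spec.map _ ≫ hU.fromSpec = _
      rw [← Spec.map_comp_assoc]
      show Spec.map _ ≫ hU.fromSpec = Spec.map _ ≫ hU.fromSpec
      congr 2
      ext r
      exact v.commutes r)
  have nat : ∀ {A A' : Type u} [CommRing A] [Algebra R A] [CommRing A'] [Algebra R A'] (v : A' →ₐ[R] A)
      (φ : X ⊗ TA A' ⟶ Y) (c : C →ₐ[R] B ⊗[R] A'), Rel A' φ c →
      Rel A ((X ◁ gA v) ≫ φ) ((Algebra.TensorProduct.map (AlgHom.id R B) v).comp c) := by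
    intro A A' _ _ _ _ v φ c h
    let m : B ⊗[R] A' →ₐ[R] B ⊗[R] A := Algebra.TensorProduct.map (AlgHom.id R B) v
    have key : (e A).hom ≫ (X ◁ gA v).left = Spec.map (CommRingCat.ofHom m.toRingHom) ≫ (e A').hom := by
      apply pullback.hom_ext
      · show ((e A).hom ≫ (X ◁ gA v).left) ≫ (fst X (TA A')).left = (_ ≫ (e A').hom) ≫ (fst X (TA A')).left
        rw [Category.assoc, ← Over.comp_left, whiskerLeft_fst, he1, Category.assoc, he1, ← Spec.map_comp_assoc]
        congr 2
        ext b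
        simp [m]
      · show ((e A).hom ≫ (X ◁ gA v).left) ≫ (snd X (TA A')).left = (_ ≫ (e A').hom) ≫ (snd X (TA A')).left
        rw [Category.assoc, ← Over.comp_left, whiskerLeft_snd, Over.comp_left, ← Category.assoc, he2, Category.assoc,
          he2]
        show Spec.map _ ≫ Spec.map _ = Spec.map _ ≫ Spec.map _
        rw [← Spec.map_comp, ← Spec.map_comp]
        congr 1
    show (e A).hom ≫ ((X ◁ gA v) ≫ φ).left = _
    rw [Over.comp_left, ← Category.assoc, key, Category.assoc, h, ← Spec.map_comp_assoc]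
    rfl
  have full : ∀ {A A' : Type u} [CommRing A] [Algebra R A] [CommRing A'] [Algebra R A'] (g : TA A ⟶ TA A'),
      ∃ v : A' →ₐ[R] A, gA v = g := by
    intro A A' _ _ _ _ g
    let q := Spec.preimage g.left
    have h1 : CommRingCat.ofHom (algebraMap R A') ≫ q = CommRingCat.ofHom (algebraMap R A) := by
      apply Spec.map_injective
      rw [← cancel_mono hU.fromSpec, Spec.map_comp, Category.assoc, Spec.map_preimage]
      exact Over.w g
    have hcomm : ∀ r : R, q.hom (algebraMap R A' r) = algebraMap R A r := fun r =>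
      congrArg (fun m : CommRingCat.of R ⟶ CommRingCat.of A => m.hom r) h1
    refine ⟨{ q.hom with commutes' := hcomm }, Over.OverMorphism.ext ?_⟩
    exact Spec.map_preimage g.left
  obtain ⟨ξ, hξ⟩ := toφ D u
  have key : ∀ (A : Type u) [CommRing A] [Algebra R A] (φ : X ⊗ TA A ⟶ Y),
      ∃! g : TA A ⟶ TA D, (X ◁ g) ≫ ξ = φ := by
    intro A _ _ φ
    obtain ⟨c, hc⟩ := toC A φ
    obtain ⟨v, hv, hu⟩ := huniv A c
    refine ⟨gA v, relφ A _ _ c (hv ▸ nat v ξ u hξ) hc, fun g hg => ?_⟩
    obtain ⟨v', rfl⟩ := full g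
    rw [hu v' (relC A φ _ _ (hg ▸ nat v' ξ u hξ) hc)]
  have huA : RepLocal.IsUnivAffine (homF X Y) U (TA D) ξ := by
    refine ⟨hTA D, fun T hT hTU φ => ?_⟩
    haveI := hT
    have hr : Set.range (T.left.isoSpec.inv ≫ T.hom) ⊆ Set.range hU.fromSpec := by
      rintro _ ⟨x, rfl⟩
      rw [hU.range_fromSpec, Scheme.Hom.comp_apply]
      exact hTU _
    let q := Spec.preimage (IsOpenImmersion.lift hU.fromSpec _ hr)
    letI : Algebra R Γ(T.left, ⊤) := q.hom.toAlgebra
    have hq : Spec.map (CommRingCat.ofHom (algebraMap R Γ(T.left, ⊤))) ≫ hU.fromSpec = T.left.isoSpec.inv ≫ T.hom := by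
      show Spec.map q ≫ _ = _
      rw [Spec.map_preimage, IsOpenImmersion.lift_fac]
    let j : TA Γ(T.left, ⊤) ≅ T := Over.isoMk T.left.isoSpec.symm hq.symm
    obtain ⟨g, hg, hgu⟩ := key Γ(T.left, ⊤) ((X ◁ j.hom) ≫ φ)
    refine ⟨j.inv ≫ g, ?_, fun g' hg' => ?_⟩
    · show (X ◁ (j.inv ≫ g)) ≫ ξ = φ
      rw [whiskerLeft_comp, Category.assoc, hg, ← Category.assoc, ← whiskerLeft_comp, j.inv_hom_id, whiskerLeft_id,
        Category.id_comp]
    · have hg'' : (X ◁ g') ≫ ξ = φ := hg'
      rw [← hgu (j.hom ≫ g') (by show (X ◁ (j.hom ≫ g')) ≫ ξ = _; rw [whiskerLeft_comp, Category.assoc, hg'']),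
        Iso.inv_hom_id_assoc]
  let g : (TA D).left ⟶ U := Spec.map (CommRingCat.ofHom (algebraMap R D)) ≫ hU.isoSpec.inv
  haveI : IsAffine (U : Scheme.{u}) := hU
  haveI : IsAffine (TA D).left := inferInstanceAs (IsAffine (Spec (CommRingCat.of D)))
  refine ⟨TA D, ξ, g, huA.isUniv (isLocal_homF X Y), ?_, isAffineHom_of_isAffine g, fun h => ?_, fun h => ?_⟩
  · show (Spec.map _ ≫ hU.isoSpec.inv) ≫ U.ι = _
    rw [Category.assoc, IsAffineOpen.isoSpec_inv_ι]
    rfl
  · have hC : Algebra.FinitePresentation R C := by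
      show (Y.hom.app U).hom.FinitePresentation
      rw [Scheme.Hom.app_eq_appLE]
      exact HasRingHomProperty.appLE @LocallyOfFinitePresentation Y.hom h ⟨U, hU⟩ ⟨_, hY'⟩ _
    haveI : LocallyOfFinitePresentation (Spec.map (CommRingCat.ofHom (algebraMap R D))) :=
      HasRingHomProperty.Spec_iff.mpr (RingHom.finitePresentation_algebraMap.mpr (hfp hC))
    show LocallyOfFinitePresentation (Spec.map _ ≫ hU.isoSpec.inv)
    infer_instance
  · have hC : Algebra.FiniteType R C := by
      show (Y.hom.app U).hom.FiniteType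
      rw [Scheme.Hom.app_eq_appLE]
      exact HasRingHomProperty.appLE @LocallyOfFiniteType Y.hom h ⟨U, hU⟩ ⟨_, hY'⟩ _
    haveI : LocallyOfFiniteType (Spec.map (CommRingCat.ofHom (algebraMap R D))) :=
      HasRingHomProperty.Spec_iff.mpr (RingHom.finiteType_algebraMap.mpr (hft hC))
    show LocallyOfFiniteType (Spec.map _ ≫ hU.isoSpec.inv)
    infer_instance

/-- The functor of morphisms from a finite locally free scheme to an affine scheme is representable by an affine scheme. -/
theorem exists_homScheme [IsFinite X.hom] [Flat X.hom] [LocallyOfFinitePresentation X.hom] [IsAffineHom Y.hom] :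
    ∃ (M : Over S) (ev : X ⊗ M ⟶ Y), IsAffineHom M.hom ∧
      (LocallyOfFinitePresentation Y.hom → LocallyOfFinitePresentation M.hom) ∧
      (LocallyOfFiniteType Y.hom → LocallyOfFiniteType M.hom) ∧
      ∀ (T : Over S) (φ : X ⊗ T ⟶ Y), ∃! v : T ⟶ M, (X ◁ v) ≫ ev = φ := by
  choose M ξ g h hg ha hp ht using exists_chart X Y
  obtain ⟨G, Ξ, hG⟩ := RepLocal.exists_univ (isLocal_homF X Y) fun U => ⟨M U, ξ U, h U⟩
  refine ⟨G, Ξ, ?_, fun hY => ?_, fun hY => ?_, hG⟩
  · exact RepLocal.prop_of_charts @IsAffineHom hG fun U => ⟨M U, ξ U, g U, h U, hg U, ha U⟩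
  · exact RepLocal.prop_of_charts @LocallyOfFinitePresentation hG fun U => ⟨M U, ξ U, g U, h U, hg U, hp U hY⟩
  · exact RepLocal.prop_of_charts @LocallyOfFiniteType hG fun U => ⟨M U, ξ U, g U, h U, hg U, ht U hY⟩

end Groth.Agent.HomScheme
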