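import Mathlib.RingTheory.FinitePresentation
import Mathlib.RingTheory.FiniteType
import Mathlib.RingTheory.TensorProduct.Maps
import Mathlib.Algebra.Module.Projective
import Mathlib.RingTheory.MvPolynomial.Basic
import Mathlib.RingTheory.Finiteness.Projective

/-!
# Weil restriction of an algebra along a finite projective algebra

For `B` finite projective over `R` and any `R`-algebra `C`, the functor `A ↦ Hom_R(C, B ⊗ A)` is represented.
-/

set_option autoImplicit false
set_option linter.style.haveILetI false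

universe u

open TensorProduct

namespace Groth.Agent.HomScheme

variable (R B C : Type u) [CommRing R] [CommRing B] [Algebra R B] [CommRing C] [Algebra R C]

/-- Dual bases of a finite projective module. -/
theorem exists_dualBasis [Module.Finite R B] [Module.Projective R B] :
    ∃ (n : ℕ) (b : Fin n → B) (f : Fin n → (B →ₗ[R] R)), ∀ x, x = ∑ j, f j x • b j := by
  obtain ⟨n, p, hp⟩ := Module.Finite.exists_fin' R B
  obtain ⟨i, hi⟩ := Module.projective_lifting_property p LinearMap.id hp
  refine ⟨n, fun j => p (Pi.single j 1), fun j => (LinearMap.proj j).comp i, fun x => ?_⟩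
  conv_lhs => rw [show x = p (i x) from (LinearMap.congr_fun hi x).symm, pi_eq_sum_univ' (i x)]
  simp

/-- The Weil restriction of an algebra along a finite projective algebra. -/
theorem exists_univ [Module.Finite R B] [Module.Projective R B] :
    ∃ (D : Type u) (_ : CommRing D) (_ : Algebra R D) (u : C →ₐ[R] B ⊗[R] D),
      (Algebra.FinitePresentation R C → Algebra.FinitePresentation R D) ∧
      (Algebra.FiniteType R C → Algebra.FiniteType R D) ∧
      ∀ (A : Type u) [CommRing A] [Algebra R A] (φ : C →ₐ[R] B ⊗[R] A),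
        ∃! v : D →ₐ[R] A, (Algebra.TensorProduct.map (AlgHom.id R B) v).comp u = φ := by
  classical
  obtain ⟨n, b, f, hbf⟩ := exists_dualBasis R B
  obtain ⟨σ, q, hq, hfp, hft⟩ : ∃ (σ : Type u) (q : MvPolynomial σ R →ₐ[R] C), Function.Surjective q ∧
      (Algebra.FinitePresentation R C → Finite σ ∧ (RingHom.ker q.toRingHom).FG) ∧
      (Algebra.FiniteType R C → Finite σ) := by
    by_cases h : Algebra.FiniteType R C
    · obtain ⟨ι, _, q, hq⟩ := Algebra.FiniteType.iff_quotient_mvPolynomial'.mp h
      exact ⟨ι, q, hq, fun hp => ⟨Finite.of_fintype ι, Algebra.FinitePresentation.ker_fG_of_surjective q hq⟩,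
        fun _ => Finite.of_fintype ι⟩
    · exact ⟨C, MvPolynomial.aeval id, fun c => ⟨MvPolynomial.X c, by simp⟩,
        fun hp => absurd (@Algebra.FiniteType.of_finitePresentation R C _ _ _ hp) h, fun ht => absurd ht h⟩
  let coord : ∀ (A : Type u) [CommRing A] [Algebra R A], Fin n → (B ⊗[R] A →ₗ[R] A) := fun A _ _ j =>
    (TensorProduct.lid R A).toLinearMap.comp ((f j).rTensor A)
  have hcoord : ∀ (A : Type u) [CommRing A] [Algebra R A] (z : B ⊗[R] A), z = ∑ j, b j ⊗ₜ[R] coord A j z := by
    intro A _ _ z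
    induction z using TensorProduct.induction_on with
    | zero => simp
    | tmul x a =>
      conv_lhs => rw [hbf x, TensorProduct.sum_tmul]
      simp [coord, TensorProduct.smul_tmul]
    | add z w hz hw =>
      conv_lhs => rw [hz, hw, ← Finset.sum_add_distrib]
      simp [TensorProduct.tmul_add]
  have hnat : ∀ (A A' : Type u) [CommRing A] [Algebra R A] [CommRing A'] [Algebra R A'] (v : A →ₐ[R] A') (j : Fin n)
      (z : B ⊗[R] A), coord A' j (Algebra.TensorProduct.map (AlgHom.id R B) v z) = v (coord A j z) := by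
    intro A A' _ _ _ _ v j z
    induction z using TensorProduct.induction_on with
    | zero => simp
    | tmul x a => simp [coord]
    | add z w hz hw => simp [hz, hw]
  let P := MvPolynomial (σ × Fin n) R
  let E : σ → B ⊗[R] P := fun s => ∑ j, b j ⊗ₜ[R] MvPolynomial.X (s, j)
  let ev : MvPolynomial σ R →ₐ[R] B ⊗[R] P := MvPolynomial.aeval E
  let J : Ideal P := Ideal.span (Set.range fun sj : σ × Fin n => coord P sj.2 (E sj.1) - MvPolynomial.X sj) ⊔
    Ideal.span {p | ∃ g ∈ RingHom.ker q.toRingHom, ∃ j, p = coord P j (ev g)}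
  let D := P ⧸ J
  let π : P →ₐ[R] D := Ideal.Quotient.mkₐ R J
  have hπ : ∀ g ∈ RingHom.ker q.toRingHom, Algebra.TensorProduct.map (AlgHom.id R B) π (ev g) = 0 := by
    intro g hg
    rw [hcoord D (Algebra.TensorProduct.map (AlgHom.id R B) π (ev g))]
    refine Finset.sum_eq_zero fun j _ => ?_
    rw [hnat, show π (coord P j (ev g)) = 0 from Ideal.Quotient.eq_zero_iff_mem.mpr
      (Ideal.mem_sup_right (Ideal.subset_span ⟨g, hg, j, rfl⟩)), TensorProduct.tmul_zero]
  let e : (MvPolynomial σ R ⧸ RingHom.ker q) ≃ₐ[R] C := Ideal.quotientKerAlgEquivOfSurjective hq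
  let w : (MvPolynomial σ R ⧸ RingHom.ker q) →ₐ[R] B ⊗[R] D :=
    Ideal.Quotient.liftₐ _ ((Algebra.TensorProduct.map (AlgHom.id R B) π).comp ev) hπ
  let u : C →ₐ[R] B ⊗[R] D := w.comp e.symm.toAlgHom
  have hu : ∀ g, u (q g) = Algebra.TensorProduct.map (AlgHom.id R B) π (ev g) := fun g => by
    show w (e.symm (q g)) = _
    rw [show e.symm (q g) = Ideal.Quotient.mk _ g from e.symm_apply_eq.mpr rfl]
    rfl
  refine ⟨D, inferInstance, inferInstance, u, fun hp => ?_, fun ht => ?_, fun A _ _ φ => ?_⟩
  · obtain ⟨hfin, hfg⟩ := hfp hp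
    haveI := hfin
    refine Algebra.FinitePresentation.quotient (Submodule.FG.sup (Submodule.fg_span (Set.finite_range _)) ?_)
    obtain ⟨t, ht⟩ := hfg
    have hlin : ∀ (j : Fin n) (z w : B ⊗[R] P), coord P j (z * w) =
        ∑ k, coord P j (z * (b k ⊗ₜ[R] (1 : P))) * coord P k w := by
      intro j z w
      conv_lhs => rw [hcoord P w, Finset.mul_sum, map_sum]
      refine Finset.sum_congr rfl fun k _ => ?_
      generalize coord P k w = c
      induction z using TensorProduct.induction_on with
      | zero => simp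
      | tmul x a => simp [coord, Algebra.TensorProduct.tmul_mul_tmul]
      | add z z' hz hz' => simp [add_mul, hz, hz']
    have hJeq : Ideal.span {p | ∃ g ∈ RingHom.ker q.toRingHom, ∃ j, p = coord P j (ev g)} =
        Ideal.span (Set.range fun gj : {x // x ∈ t} × Fin n => coord P gj.2 (ev gj.1.1)) := by
      refine le_antisymm (Ideal.span_le.mpr ?_) (Ideal.span_le.mpr ?_)
      · rintro _ ⟨g, hg, j, rfl⟩
        rw [← ht] at hg
        induction hg using Submodule.span_induction generalizing j with
        | mem x hx => exact Ideal.subset_span ⟨(⟨x, hx⟩, j), rfl⟩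
        | zero => simp
        | add x y _ _ hx hy => simpa using Ideal.add_mem _ (hx j) (hy j)
        | smul c x _ hx =>
          rw [smul_eq_mul, map_mul, SetLike.mem_coe, hlin]
          exact sum_mem fun k _ => Ideal.mul_mem_left _ _ (hx k)
      · rintro _ ⟨⟨⟨g, hg⟩, j⟩, rfl⟩
        exact Ideal.subset_span ⟨g, (ht ▸ Ideal.subset_span hg :), j, rfl⟩
    rw [hJeq]
    exact Submodule.fg_span (Set.finite_range _)
  · haveI := hft ht
    exact Algebra.FiniteType.of_surjective π (Ideal.Quotient.mkₐ_surjective R J)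
  · let a : σ × Fin n → A := fun sj => coord A sj.2 (φ (q (MvPolynomial.X sj.1)))
    let v₀ : P →ₐ[R] A := MvPolynomial.aeval a
    have hv₀X : ∀ sj, v₀ (MvPolynomial.X sj) = a sj := fun sj => MvPolynomial.aeval_X _ _
    have hE : ∀ s, Algebra.TensorProduct.map (AlgHom.id R B) v₀ (E s) = φ (q (MvPolynomial.X s)) := fun s => by
      rw [map_sum, hcoord A (φ (q (MvPolynomial.X s)))]
      simp only [Algebra.TensorProduct.map_tmul, AlgHom.id_apply, hv₀X, a]
    have hev : ∀ g, Algebra.TensorProduct.map (AlgHom.id R B) v₀ (ev g) = φ (q g) := by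
      have h2 : (Algebra.TensorProduct.map (AlgHom.id R B) v₀).comp ev = φ.comp q :=
        MvPolynomial.algHom_ext fun s => by simpa [ev] using hE s
      exact fun g => AlgHom.congr_fun h2 g
    have hJ : J ≤ RingHom.ker v₀.toRingHom := by
      refine sup_le (Ideal.span_le.mpr ?_) (Ideal.span_le.mpr ?_)
      · rintro _ ⟨⟨s, j⟩, rfl⟩
        show v₀ (coord P j (E s) - MvPolynomial.X (s, j)) = 0
        rw [map_sub, ← hnat, hE, sub_eq_zero]
        simp only [Algebra.TensorProduct.map_tmul, AlgHom.id_apply, hv₀X, a]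
      · rintro _ ⟨g, hg, j, rfl⟩
        show v₀ (coord P j (ev g)) = 0
        rw [← hnat, hev, show q g = 0 from hg, map_zero, map_zero]
    let v : D →ₐ[R] A := Ideal.Quotient.liftₐ J v₀ hJ
    have hvπ : v.comp π = v₀ := AlgHom.ext fun x => rfl
    refine ⟨v, AlgHom.ext fun c => ?_, fun v' hv' => ?_⟩
    · obtain ⟨g, rfl⟩ := hq c
      rw [AlgHom.comp_apply, hu, ← AlgHom.comp_apply, ← Algebra.TensorProduct.map_comp, AlgHom.id_comp, hvπ, hev]
    · apply Ideal.Quotient.algHom_ext
      refine MvPolynomial.algHom_ext fun sj => ?_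
      obtain ⟨s, j⟩ := sj
      show v' (π (MvPolynomial.X (s, j))) = v₀ (MvPolynomial.X (s, j))
      have h1 : π (MvPolynomial.X (s, j)) = π (coord P j (E s)) :=
        (Ideal.Quotient.eq.mpr (Ideal.mem_sup_left (Ideal.subset_span
          (show coord P j (E s) - MvPolynomial.X (s, j) ∈
            Set.range fun sj : σ × Fin n => coord P sj.2 (E sj.1) - MvPolynomial.X sj from ⟨(s, j), rfl⟩)))).symm
      rw [h1, ← hnat, ← hnat]
      have h2 : Algebra.TensorProduct.map (AlgHom.id R B) π (E s) = u (q (MvPolynomial.X s)) := by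
        rw [hu]; simp [ev]
      rw [h2, ← AlgHom.comp_apply, hv']
      simp only [Algebra.TensorProduct.map_tmul, AlgHom.id_apply, hv₀X, a]

end Groth.Agent.HomScheme
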