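import Groth.Agent.HomScheme.Main
import Groth.Agent.TransLib.Finite
import Groth.Prelude.Def_AutFam
import Groth.Agent.AlgSpPts.Sep

/-!
# The scheme of homomorphisms from a finite flat group scheme to an affine group scheme
-/

set_option autoImplicit false
set_option linter.style.haveILetI false
set_option backward.isDefEq.respectTransparency false
set_option backward.isDefEq.respectTransparency.types false

universe u

open CategoryTheory CategoryTheory.Limits MonoidalCategory CartesianMonoidalCategory MonObj GrpObj AlgebraicGeometry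

namespace Groth.Agent.HomScheme

variable {S : Scheme.{u}} (G G' : Over S) [GrpObj G] [GrpObj G']

/-- Homomorphisms from a finite locally free group to an affine group are represented by an affine scheme. -/
theorem exists_homGrpScheme [IsFinite G.hom] [Flat G.hom] [LocallyOfFinitePresentation G.hom]
    [IsAffineHom G'.hom] :
    ∃ (A : Over S) (υ : G ⊗ A ⟶ G'), AutFam.RepresentsHom G G' A υ ∧ IsAffineHom A.hom ∧
      (LocallyOfFiniteType G'.hom → LocallyOfFiniteType A.hom) ∧
      (LocallyOfFinitePresentation G'.hom → LocallyOfFinitePresentation A.hom) := by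
  obtain ⟨M, ev, haff, hp, ht, hu⟩ := exists_homScheme G G'
  haveI := haff
  let W := G ⊗ G
  haveI : IsFinite (pullback.snd G.hom G.hom) := MorphismProperty.pullback_snd (P := @IsFinite) _ _ inferInstance
  haveI : Flat (pullback.snd G.hom G.hom) := MorphismProperty.pullback_snd (P := @Flat) _ _ inferInstance
  haveI : LocallyOfFinitePresentation (pullback.snd G.hom G.hom) :=
    MorphismProperty.pullback_snd (P := @LocallyOfFinitePresentation) _ _ inferInstance
  have hW : pullback.snd G.hom G.hom ≫ G.hom = W.hom := Over.w (snd G G)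
  haveI : IsFinite W.hom := hW ▸ (inferInstance : IsFinite (pullback.snd G.hom G.hom ≫ G.hom))
  haveI : Flat W.hom := hW ▸ (inferInstance : Flat (pullback.snd G.hom G.hom ≫ G.hom))
  haveI : LocallyOfFinitePresentation W.hom :=
    hW ▸ (inferInstance : LocallyOfFinitePresentation (pullback.snd G.hom G.hom ≫ G.hom))
  let g₁ : W ⊗ M ⟶ G := fst W M ≫ fst G G
  let g₂ : W ⊗ M ⟶ G := fst W M ≫ snd G G
  let a : W ⊗ M ⟶ G' := lift (g₁ * g₂) (snd W M) ≫ ev
  let b : W ⊗ M ⟶ G' := (lift g₁ (snd W M) ≫ ev) * (lift g₂ (snd W M) ≫ ev)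
  let Δ : G' ⟶ G' ⊗ G' := lift (𝟙 G') (𝟙 G')
  have hΔ : Δ.left = pullback.diagonal G'.hom := by
    apply pullback.hom_ext
    · rw [pullback.diagonal_fst]
      exact congrArg CommaMorphism.left (lift_fst (𝟙 G') (𝟙 G'))
    · rw [pullback.diagonal_snd]
      exact congrArg CommaMorphism.left (lift_snd (𝟙 G') (𝟙 G'))
  haveI : IsClosedImmersion Δ.left := by rw [hΔ]; infer_instance
  obtain ⟨Z, c, hc, hcfp, hZ⟩ := TransLib.exists_closed_universal_finite (lift a b) Δ
  haveI := hc
  have hiff : ∀ {P : Over S} (x : P ⟶ M), (∃ z : P ⟶ Z, z ≫ c = x) ↔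
      AutFam.IsHomFamily G G' ((G ◁ x) ≫ ev) := by
    intro P x
    rw [hZ x]
    constructor
    · rintro ⟨l, hl⟩ X g₁' g₂' t
      have h1 := congrArg (fun m => lift (lift g₁' g₂') t ≫ m ≫ fst G' G') hl
      have h2 := congrArg (fun m => lift (lift g₁' g₂') t ≫ m ≫ snd G' G') hl
      simp only [Δ, Category.assoc, lift_fst, lift_snd, Category.comp_id] at h1 h2
      have h3 := h1.symm.trans h2
      simp only [W, a, b, g₁, g₂, comp_mul, comp_lift, comp_lift_assoc, Category.assoc, whiskerLeft_fst_assoc,
        whiskerLeft_snd, lift_fst_assoc, lift_snd_assoc, lift_fst, lift_snd, whiskerLeft_fst, lift_whiskerLeft_assoc] at h3 ⊢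
      exact h3
    · intro h
      refine ⟨(W ◁ x) ≫ a, ?_⟩
      apply CartesianMonoidalCategory.hom_ext
      · simp [Δ]
      · have h3 := h (W ⊗ P) (fst W P ≫ fst G G) (fst W P ≫ snd G G) (snd W P)
        simp only [W, Δ, a, b, g₁, g₂, comp_mul, comp_lift, comp_lift_assoc, Category.assoc, whiskerLeft_fst_assoc,
          whiskerLeft_snd, lift_fst_assoc, lift_snd_assoc, lift_fst, lift_snd, whiskerLeft_fst, lift_whiskerLeft_assoc,
          Category.comp_id] at h3 ⊢
        exact h3
  refine ⟨Z, (G ◁ c) ≫ ev, ⟨(hiff c).mp ⟨𝟙 Z, Category.id_comp c⟩, fun T φ hφ => ?_⟩, ?_, fun h => ?_, fun h => ?_⟩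
  · obtain ⟨v, hv, huv⟩ := hu T φ
    obtain ⟨z, hz⟩ := (hiff v).mpr (hv ▸ hφ)
    refine ⟨z, ?_, fun z' hz' => ?_⟩
    · show (G ◁ z) ≫ (G ◁ c) ≫ ev = φ
      rw [← Category.assoc, ← whiskerLeft_comp, hz, hv]
    · have h1 : z' ≫ c = v := huv _ (by
        show (G ◁ (z' ≫ c)) ≫ ev = φ
        rw [whiskerLeft_comp, Category.assoc]
        exact hz')
      apply Over.OverMorphism.ext
      rw [← cancel_mono c.left, ← Over.comp_left, ← Over.comp_left, h1, hz]
  · rw [← Over.w c]
    infer_instance
  · haveI := ht h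
    rw [← Over.w c]
    infer_instance
  · haveI := h
    haveI := hp h
    haveI : LocallyOfFinitePresentation c.left := hcfp (by
      rw [hΔ]
      haveI : LocallyOfFinitePresentation (pullback.diagonal G'.hom ≫ pullback.fst G'.hom G'.hom) := by
        rw [pullback.diagonal_fst]; infer_instance
      exact AlgSpPts.locallyOfFinitePresentation_of_comp (pullback.diagonal G'.hom) (pullback.fst G'.hom G'.hom))
    rw [← Over.w c]
    infer_instance

end Groth.Agent.HomScheme
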