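import Groth.Agent.HomScheme.Monomial
import Groth.Agent.HomScheme.Grp
import Mathlib.AlgebraicGeometry.Morphisms.Etale
import Mathlib.AlgebraicGeometry.Morphisms.Finite

/-!
# An affine scheme of homomorphisms between split groups of multiplicative type is finite étale
-/

set_option autoImplicit false
set_option linter.style.haveILetI false
set_option linter.unusedSectionVars false
set_option backward.isDefEq.respectTransparency false
set_option backward.isDefEq.respectTransparency.types false
set_option maxHeartbeats 1600000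

universe u

open CategoryTheory CategoryTheory.Limits MonoidalCategory CartesianMonoidalCategory MonObj AlgebraicGeometry

namespace Groth.Agent.HomScheme

open GrpSchLib GrpSchLib.DiagActionRigid GrpSchLib.SubgroupFactor DSPtsLib

variable {S : Scheme.{u}} {G H A : Over S} [GrpObj G] [GrpObj H] {υ : G ⊗ A ⟶ H}
  (hυ : AutFam.RepresentsHom G H A υ) [IsAffineHom A.hom] [LocallyOfFiniteType A.hom]
  {R : Type u} [CommRing R] {β : Spec (CommRingCat.of R) ⟶ S} {M N : Type} [AddCommGroup M] [AddCommGroup N]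
  [AddGroup.FG N]
  (χG : ∀ (T : Type u) [CommRing T] [Algebra R T], (CoordM.{u} M →+* T) → (DiagActionRigid.sp β T ⟶ G))
  (hGnat : ∀ {T₁ T₂ : Type u} [CommRing T₁] [Algebra R T₁] [CommRing T₂] [Algebra R T₂] (φ : T₁ →ₐ[R] T₂)
      (c : CoordM.{u} M →+* T₁), spm β φ ≫ χG T₁ c = χG T₂ (φ.toRingHom.comp c))
  (hGmul : ∀ {T₁ : Type u} [CommRing T₁] [Algebra R T₁] (c c' d : CoordM.{u} M →+* T₁),
      (∀ m, d (MonoidAlgebra.single m 1) = c (MonoidAlgebra.single m 1) * c' (MonoidAlgebra.single m 1)) →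
        χG T₁ c * χG T₁ c' = χG T₁ d)
  (hGbij : ∀ (T₁ : Type u) [CommRing T₁] [Algebra R T₁], Function.Bijective (χG T₁))
  (χH : ∀ (T : Type u) [CommRing T] [Algebra R T], (CoordM.{u} N →+* T) → (DiagActionRigid.sp β T ⟶ H))
  (hHnat : ∀ {T₁ T₂ : Type u} [CommRing T₁] [Algebra R T₁] [CommRing T₂] [Algebra R T₂] (φ : T₁ →ₐ[R] T₂)
      (c : CoordM.{u} N →+* T₁), spm β φ ≫ χH T₁ c = χH T₂ (φ.toRingHom.comp c))
  (hHmul : ∀ {T₁ : Type u} [CommRing T₁] [Algebra R T₁] (c c' d : CoordM.{u} N →+* T₁),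
      (∀ m, d (MonoidAlgebra.single m 1) = c (MonoidAlgebra.single m 1) * c' (MonoidAlgebra.single m 1)) →
        χH T₁ c * χH T₁ c' = χH T₁ d)
  (hHbij : ∀ (T₁ : Type u) [CommRing T₁] [Algebra R T₁], Function.Bijective (χH T₁))

include hυ hGnat hGmul hGbij hHnat hHmul hHbij in
theorem finite_etale_piece : IsFinite (pullback.snd A.hom β) ∧ Etale (pullback.snd A.hom β) := by
  classical
  -- the coordinate ring of the base change
  haveI : IsAffineHom (pullback.snd A.hom β) := MorphismProperty.pullback_snd (P := @IsAffineHom) _ _ inferInstance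
  haveI : IsAffine (pullback A.hom β) := isAffine_of_isAffineHom (pullback.snd A.hom β)
  let P := pullback A.hom β
  let ρ : CommRingCat.of R ⟶ Γ(P, ⊤) := Spec.preimage (P.isoSpec.inv ≫ pullback.snd A.hom β)
  have hρ : Spec.map ρ = P.isoSpec.inv ≫ pullback.snd A.hom β := Spec.map_preimage _
  let D : Type u := Γ(P, ⊤)
  letI : Algebra R D := ρ.hom.toAlgebra
  let a : DiagActionRigid.sp β D ⟶ A := Over.homMk (P.isoSpec.inv ≫ pullback.fst A.hom β) (by
    show (P.isoSpec.inv ≫ pullback.fst A.hom β) ≫ A.hom = Spec.map ρ ≫ β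
    rw [hρ, Category.assoc, Category.assoc, pullback.condition])
  have huniv : ∀ (T : Type u) [CommRing T] [Algebra R T] (v : DiagActionRigid.sp β T ⟶ A), ∃! f : D →ₐ[R] T, spm β f ≫ a = v := by
    intro T _ _ v
    let y : Spec (CommRingCat.of T) ⟶ P :=
      pullback.lift v.left (Spec.map (CommRingCat.ofHom (algebraMap R T))) (Over.w v)
    let q := Spec.preimage (y ≫ P.isoSpec.hom)
    have hq : Spec.map q = y ≫ P.isoSpec.hom := Spec.map_preimage _
    have h1 : ρ ≫ q = CommRingCat.ofHom (algebraMap R T) := by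
      apply Spec.map_injective
      rw [Spec.map_comp, hρ, hq, Category.assoc, Iso.hom_inv_id_assoc, pullback.lift_snd]
    have hcomm : ∀ r : R, q.hom (ρ.hom r) = algebraMap R T r := fun r =>
      congrArg (fun m : CommRingCat.of R ⟶ CommRingCat.of T => m.hom r) h1
    refine ⟨{ q.hom with commutes' := hcomm }, Over.OverMorphism.ext ?_, fun f' hf' => ?_⟩
    · show Spec.map q ≫ P.isoSpec.inv ≫ pullback.fst A.hom β = v.left
      rw [hq, Category.assoc, Iso.hom_inv_id_assoc, pullback.lift_fst]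
    · refine AlgHom.coe_ringHom_injective ?_
      have hsnd : (Spec.map (CommRingCat.ofHom f'.toRingHom) ≫ P.isoSpec.inv) ≫ pullback.snd A.hom β =
          Spec.map (CommRingCat.ofHom (algebraMap R T)) := by
        rw [Category.assoc, ← hρ, ← Spec.map_comp]
        congr 1
        exact CommRingCat.hom_ext f'.comp_algebraMap
      have e : Spec.map (CommRingCat.ofHom f'.toRingHom) = Spec.map q := by
        rw [hq, ← Iso.comp_inv_eq]
        refine pullback.hom_ext ?_ ?_
        · rw [Category.assoc, pullback.lift_fst]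
          exact congrArg CommaMorphism.left hf'
        · rw [hsnd, pullback.lift_snd]
      exact congrArg CommRingCat.Hom.hom (Spec.map_injective e)
  -- evaluation of a family at a character
  let F : ∀ (T : Type u) [CommRing T] [Algebra R T], (DiagActionRigid.sp β T ⟶ A) → (CoordM.{u} M →+* T) → (DiagActionRigid.sp β T ⟶ H) :=
    fun T _ _ v c => lift (χG T c) v ≫ υ
  have hFnat : ∀ {T T' : Type u} [CommRing T] [Algebra R T] [CommRing T'] [Algebra R T'] (f : T →ₐ[R] T') v c,
      spm β f ≫ F T v c = F T' (spm β f ≫ v) (f.toRingHom.comp c) := by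
    intro T T' _ _ _ _ f v c
    show spm β f ≫ lift (χG T c) v ≫ υ = lift (χG T' _) (spm β f ≫ v) ≫ υ
    rw [← Category.assoc, comp_lift, hGnat]
  have hFmul : ∀ {T : Type u} [CommRing T] [Algebra R T] v (c c' d : CoordM.{u} M →+* T),
      (∀ m, d (MonoidAlgebra.single m 1) = c (MonoidAlgebra.single m 1) * c' (MonoidAlgebra.single m 1)) →
      F T v c * F T v c' = F T v d := by
    intro T _ _ v c c' d hd
    show (lift (χG T c) v ≫ υ) * (lift (χG T c') v ≫ υ) = lift (χG T d) v ≫ υ
    rw [← hυ.1, hGmul c c' d hd]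
  have hext : ∀ {T : Type u} [CommRing T] [Algebra R T] (v w : DiagActionRigid.sp β T ⟶ A),
      (∀ (T' : Type u) [CommRing T'] [Algebra R T'] (f : T →ₐ[R] T') (c : CoordM.{u} M →+* T'),
        F T' (spm β f ≫ v) c = F T' (spm β f ≫ w) c) → v = w := by
    intro T _ _ v w h
    have hfam : ∀ x : DiagActionRigid.sp β T ⟶ A, AutFam.IsHomFamily G H ((G ◁ x) ≫ υ) := fun x X g₁ g₂ t => by
      rw [lift_whiskerLeft_assoc, lift_whiskerLeft_assoc, lift_whiskerLeft_assoc]
      exact hυ.1 X g₁ g₂ (t ≫ x)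
    refine (hυ.2 _ _ (hfam v)).unique rfl ?_
    let Z := G ⊗ DiagActionRigid.sp β T
    refine Over.OverMorphism.ext (Scheme.Cover.hom_ext Z.left.affineCover _ _ fun i => ?_)
    obtain ⟨B, hB⟩ : ∃ B : CommRingCat.{u}, Z.left.affineCover.X i = Spec B := ⟨_, rfl⟩
    rw [← cancel_epi (eqToHom hB.symm), ← Category.assoc, ← Category.assoc]
    generalize eqToHom hB.symm ≫ Z.left.affineCover.f i = q
    obtain ⟨k, hk⟩ : ∃ k, Spec.map k = q ≫ (snd G (DiagActionRigid.sp β T)).left := ⟨_, Spec.map_preimage _⟩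
    letI : Algebra R B := (k.hom.comp (algebraMap R T)).toAlgebra
    let f : T →ₐ[R] B := { k.hom with commutes' := fun _ => rfl }
    let q' : DiagActionRigid.sp β (B : Type u) ⟶ Z := Over.homMk q (by
      show q ≫ Z.hom = Spec.map (CommRingCat.ofHom (k.hom.comp (algebraMap R T))) ≫ β
      rw [← Over.w (snd G (DiagActionRigid.sp β T)), ← Category.assoc, ← hk, CommRingCat.ofHom_comp, Spec.map_comp,
        Category.assoc]
      rfl)
    obtain ⟨c, hc⟩ := (hGbij B).2 (q' ≫ fst G (DiagActionRigid.sp β T))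
    have hq' : q' = lift (χG B c) (spm β f) := by
      apply CartesianMonoidalCategory.hom_ext
      · rw [lift_fst, hc]
      · rw [lift_snd]
        exact Over.OverMorphism.ext hk.symm
    have h' := congrArg CommaMorphism.left (h B f c)
    show q ≫ ((G ◁ w) ≫ υ).left = q ≫ ((G ◁ v) ≫ υ).left
    rw [show q = q'.left from rfl, ← Over.comp_left, ← Over.comp_left, hq', lift_whiskerLeft_assoc,
      lift_whiskerLeft_assoc]
    exact h'.symm
  -- the universal family as a character into `D[M]`
  let C1 := MonoidAlgebra D (Multiplicative M)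
  let C2 := MonoidAlgebra D (Multiplicative M × Multiplicative M)
  let i₁ : D →ₐ[R] C1 := IsScalarTower.toAlgHom R D C1
  let i₂ : D →ₐ[R] C2 := IsScalarTower.toAlgHom R D C2
  let cG : CoordM.{u} M →+* C1 := univPt D (AddMonoidHom.id M)
  obtain ⟨cH, hcH⟩ := (hHbij C1).2 (F C1 (spm β i₁ ≫ a) cG)
  let v : Multiplicative N →* C1 := (cH : CoordM.{u} N →* C1).comp (MonoidAlgebra.of (ULift.{u} ℤ) (Multiplicative N))
  let σ : (Multiplicative M →* Multiplicative M × Multiplicative M) → (C1 →ₐ[R] C2) := fun τ =>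
    (MonoidAlgebra.mapDomainAlgHom D D τ).restrictScalars R
  have hσi : ∀ τ, spm β (σ τ) ≫ spm β i₁ = spm β i₂ := fun τ => by
    refine Over.OverMorphism.ext ?_
    show Spec.map _ ≫ Spec.map _ = Spec.map _
    rw [← Spec.map_comp]
    congr 1
    exact CommRingCat.hom_ext (MonoidAlgebra.mapDomainAlgHom D D τ).comp_algebraMap
  have hσG : ∀ τ m, ((σ τ).toRingHom.comp cG) (MonoidAlgebra.single m 1) = MonoidAlgebra.single (τ m) 1 := by
    intro τ m
    show σ τ (cG (MonoidAlgebra.single m 1)) = _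
    rw [univPt_single]
    exact MonoidAlgebra.mapDomain_single
  have hv : ∀ m, MonoidAlgebra.mapDomainRingHom D (MonoidHom.inl (Multiplicative M) (Multiplicative M)) (v m) *
      MonoidAlgebra.mapDomainRingHom D (MonoidHom.inr (Multiplicative M) (Multiplicative M)) (v m) =
      MonoidAlgebra.mapDomainRingHom D ((MonoidHom.id (Multiplicative M)).prod (MonoidHom.id (Multiplicative M))) (v m) := by
    let τ₁ := MonoidHom.inl (Multiplicative M) (Multiplicative M)
    let τ₂ := MonoidHom.inr (Multiplicative M) (Multiplicative M)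
    let τ₃ := (MonoidHom.id (Multiplicative M)).prod (MonoidHom.id (Multiplicative M))
    have h3 : χH C2 ((σ τ₁).toRingHom.comp cH) * χH C2 ((σ τ₂).toRingHom.comp cH) =
        χH C2 ((σ τ₃).toRingHom.comp cH) := by
      rw [← hHnat, ← hHnat, ← hHnat, hcH, hFnat, hFnat, hFnat]
      simp only [← Category.assoc, hσi]
      refine hFmul _ _ _ _ fun m => ?_
      rw [hσG, hσG, hσG, MonoidAlgebra.single_mul_single, _root_.mul_one]
      congr 1
      simp [τ₁, τ₂, τ₃]
    let d : Multiplicative N →* C2 := ((σ τ₁ : C1 →* C2).comp v) * ((σ τ₂ : C1 →* C2).comp v)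
    have hd : ∀ m, HomMonoLocus.charOf (R := R) d (MonoidAlgebra.single m 1) =
        ((σ τ₁).toRingHom.comp cH) (MonoidAlgebra.single m 1) *
          ((σ τ₂).toRingHom.comp cH) (MonoidAlgebra.single m 1) := fun m => HomMonoLocus.charOf_single d m
    rw [hHmul _ _ _ hd] at h3
    intro m
    have h := congrFun (congrArg DFunLike.coe ((hHbij C2).1 h3)) (MonoidAlgebra.single m 1)
    rw [hd] at h
    exact h
  -- the families given by homomorphisms of groups
  let R₀ : Over S := Over.mk β
  let π : ∀ (T : Type u) [CommRing T] [Algebra R T], DiagActionRigid.sp β T ⟶ R₀ := fun T _ _ =>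
    Over.homMk (Spec.map (CommRingCat.ofHom (algebraMap R T)))
  have hπ : ∀ {T T' : Type u} [CommRing T] [Algebra R T] [CommRing T'] [Algebra R T'] (f : T →ₐ[R] T'),
      spm β f ≫ π T = π T' := by
    intro T T' _ _ _ _ f
    refine Over.OverMorphism.ext ?_
    show Spec.map _ ≫ Spec.map _ = Spec.map _
    rw [← Spec.map_comp]
    congr 1
    exact CommRingCat.hom_ext f.comp_algebraMap
  let RM := MonoidAlgebra R (Multiplicative M)
  let cU : CoordM.{u} M →+* RM := univPt R (AddMonoidHom.id M)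
  let j : DiagActionRigid.sp β RM ⟶ G ⊗ R₀ := lift (χG RM cU) (π RM)
  haveI : IsIso j.left := HomSplitLocal.isIso_univMap χG hGnat hGbij
  have hj : ∀ (T : Type u) [CommRing T] [Algebra R T] (c : CoordM.{u} M →+* T),
      spm β (HomKernelIdeal.evalChar (R := R) c) ≫ j = lift (χG T c) (π T) := by
    intro T _ _ c
    show spm β _ ≫ lift _ _ = _
    rw [comp_lift, hGnat, HomKernelIdeal.evalChar_univ, hπ]
  obtain ⟨j', hjj, hj'j⟩ : ∃ j' : G ⊗ R₀ ⟶ DiagActionRigid.sp β RM, j ≫ j' = 𝟙 _ ∧ j' ≫ j = 𝟙 _ :=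
    ⟨Over.homMk (inv j.left) (by rw [IsIso.inv_comp_eq]; exact (Over.w j).symm),
      Over.OverMorphism.ext (IsIso.hom_inv_id j.left), Over.OverMorphism.ext (IsIso.inv_hom_id j.left)⟩
  let ψ : (N →+ M) → (G ⊗ R₀ ⟶ H) := fun φ => j' ≫ χH RM (pull φ cU)
  have hψ : ∀ φ (T : Type u) [CommRing T] [Algebra R T] (c : CoordM.{u} M →+* T),
      lift (χG T c) (π T) ≫ ψ φ = χH T (pull φ c) := by
    intro φ T _ _ c
    show lift _ _ ≫ j' ≫ _ = _
    rw [← hj T c, Category.assoc, ← Category.assoc j, hjj, Category.id_comp, hHnat]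
    congr 1
    show ((HomKernelIdeal.evalChar (R := R) c).toRingHom.comp cU).comp _ = c.comp _
    rw [HomKernelIdeal.evalChar_univ]
  have hψfam : ∀ φ, AutFam.IsHomFamily G H (ψ φ) := by
    intro φ X g₁ g₂ t
    refine Over.OverMorphism.ext (Scheme.Cover.hom_ext X.left.affineCover _ _ fun i => ?_)
    obtain ⟨B, hB⟩ : ∃ B : CommRingCat.{u}, X.left.affineCover.X i = Spec B := ⟨_, rfl⟩
    rw [← cancel_epi (eqToHom hB.symm), ← Category.assoc (eqToHom hB.symm), ← Category.assoc (eqToHom hB.symm)]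
    generalize eqToHom hB.symm ≫ X.left.affineCover.f i = q
    obtain ⟨k, hk⟩ : ∃ k, Spec.map k = q ≫ t.left := ⟨_, Spec.map_preimage _⟩
    letI : Algebra R B := k.hom.toAlgebra
    let q' : DiagActionRigid.sp β (B : Type u) ⟶ X := Over.homMk q (by
      show q ≫ X.hom = Spec.map k ≫ β
      rw [hk, Category.assoc]
      exact congrArg (q ≫ ·) (Over.w t).symm)
    obtain ⟨c₁, hc₁⟩ := (hGbij B).2 (q' ≫ g₁)
    obtain ⟨c₂, hc₂⟩ := (hGbij B).2 (q' ≫ g₂)
    have ht : q' ≫ t = π B := Over.OverMorphism.ext hk.symm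
    let d : Multiplicative M →* B :=
      ((c₁ : CoordM.{u} M →* B).comp (MonoidAlgebra.of (ULift.{u} ℤ) (Multiplicative M))) *
        ((c₂ : CoordM.{u} M →* B).comp (MonoidAlgebra.of (ULift.{u} ℤ) (Multiplicative M)))
    have hd : ∀ m, HomMonoLocus.charOf (R := R) d (MonoidAlgebra.single m 1) =
        c₁ (MonoidAlgebra.single m 1) * c₂ (MonoidAlgebra.single m 1) := fun m => HomMonoLocus.charOf_single d m
    show q'.left ≫ _ = q'.left ≫ _
    rw [← Over.comp_left, ← Over.comp_left]
    refine congrArg CommaMorphism.left ?_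
    simp only [comp_mul, comp_lift_assoc]
    rw [← hc₁, ← hc₂, ht, hGmul c₁ c₂ _ hd, hψ, hψ, hψ]
    exact (hHmul _ _ _ fun m => by rw [pull_single, pull_single, pull_single, hd]).symm
  -- the points they classify, and the local description of the universal point
  have hsec : ∀ φ : N →+ M, ∃ τ : D →ₐ[R] R, ∀ (T : Type u) [CommRing T] [Algebra R T] (g : R →ₐ[R] T)
      (c : CoordM.{u} M →+* T), F T (spm β (g.comp τ) ≫ a) c = χH T (pull φ c) := by
    intro φ
    obtain ⟨t, ht, -⟩ := hυ.2 R₀ (ψ φ) (hψfam φ)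
    obtain ⟨τ, hτ, -⟩ := huniv R (π R ≫ t)
    refine ⟨τ, fun T _ _ g c => ?_⟩
    have : spm β (g.comp τ) = spm β g ≫ spm β τ := Over.OverMorphism.ext (by
      show Spec.map _ = Spec.map _ ≫ Spec.map _
      rw [← Spec.map_comp]; rfl)
    show lift _ (spm β (g.comp τ) ≫ a) ≫ υ = _
    rw [this, Category.assoc, hτ, ← Category.assoc, hπ, ← lift_whiskerLeft_assoc, ht, hψ]
  choose τ hτ using hsec
  have hnear : ∀ p : PrimeSpectrum D, ∃ d : D, d ∉ p.asIdeal ∧ ∃ φ : N →+ M,
      IsScalarTower.toAlgHom R D (Localization.Away d) = (Algebra.ofId R (Localization.Away d)).comp (τ φ) := by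
    intro p
    obtain ⟨d, hd, φ, hφ⟩ := exists_monomial_near v hv p.asIdeal
    refine ⟨d, hd, φ, ?_⟩
    let T := Localization.Away d
    let ιT : D →ₐ[R] T := IsScalarTower.toAlgHom R D T
    obtain ⟨f₀, hf₀, -⟩ := huniv T (spm β ιT ≫ a)
    suffices h : spm β ιT ≫ a = spm β ((Algebra.ofId R T).comp (τ φ)) ≫ a from
      (huniv T _).unique rfl h.symm
    refine hext _ _ fun T' _ _ f c => ?_
    have e : ∀ g : D →ₐ[R] T, spm β f ≫ spm β g = spm β (f.comp g) := fun g => Over.OverMorphism.ext (by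
      show Spec.map _ ≫ Spec.map _ = Spec.map _
      rw [← Spec.map_comp]; rfl)
    rw [← Category.assoc, ← Category.assoc, e, e, ← AlgHom.comp_assoc, hτ φ T' (f.comp (Algebra.ofId R T)) c]
    -- evaluate the universal family
    letI : Algebra D T' := (f.comp ιT).toRingHom.toAlgebra
    haveI : IsScalarTower R D T' := IsScalarTower.of_algebraMap_eq fun r => ((f.comp ιT).commutes r).symm
    let ev₀ : C1 →ₐ[D] T' := MonoidAlgebra.lift D T' (Multiplicative M)
      ((c : CoordM.{u} M →* T').comp (MonoidAlgebra.of (ULift.{u} ℤ) (Multiplicative M)))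
    let ev : C1 →ₐ[R] T' := ev₀.restrictScalars R
    have hevG : ev.toRingHom.comp cG = c := coord_ext fun m => by
      show ev₀ (cG (MonoidAlgebra.single m 1)) = _
      rw [univPt_single, MonoidAlgebra.lift_single, one_smul]
      rfl
    have hevi : spm β ev ≫ spm β i₁ = spm β (f.comp ιT) := Over.OverMorphism.ext (by
      show Spec.map _ ≫ Spec.map _ = Spec.map _
      rw [← Spec.map_comp]
      congr 1
      exact CommRingCat.hom_ext ev₀.comp_algebraMap)
    have hu : IsUnit (algebraMap D T' d) := (IsLocalization.Away.algebraMap_isUnit (S := T) d).map f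
    have hevH : ev.toRingHom.comp cH = pull φ c := coord_ext fun m => by
      rw [pull_single]
      have h2 : MonoidAlgebra.lift T' T' (Multiplicative M)
          ((c : CoordM.{u} M →* T').comp (MonoidAlgebra.of (ULift.{u} ℤ) (Multiplicative M)))
          (MonoidAlgebra.mapRingHom (Multiplicative M) (algebraMap D T') (v m)) = ev₀ (v m) := by
        induction v m using MonoidAlgebra.induction_linear with
        | zero => simp
        | add x y hx hy => rw [map_add, map_add, map_add, hx, hy]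
        | single x r =>
          rw [MonoidAlgebra.mapRingHom_single, MonoidAlgebra.lift_single, MonoidAlgebra.lift_single,
            Algebra.smul_def r, smul_eq_mul]
      show ev₀ (v m) = _
      rw [← h2, hφ T' hu m, MonoidAlgebra.lift_single, one_smul]
      rfl
    rw [← hevi, Category.assoc, ← hevG, ← hFnat, ← hcH, hHnat, hevH, hevG]
  choose d hd φ hφ using hnear
  have hspan : Ideal.span (Set.range d) = ⊤ := by
    by_contra h
    obtain ⟨m, hm, hle⟩ := Ideal.exists_le_maximal _ h
    exact hd ⟨m, hm.isPrime⟩ (hle (Ideal.subset_span ⟨_, rfl⟩))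
  obtain ⟨s, hs⟩ := (Ideal.span_eq_top_iff_finite _).mp hspan
  have key : ∀ p x, algebraMap D (Localization.Away (d p)) x = algebraMap R _ (τ (φ p) x) := fun p x =>
    AlgHom.congr_fun (hφ p) x
  -- étale
  have hlocEt : ∀ p, Algebra.Etale R (Localization.Away (d p)) := by
    intro p
    haveI : IsLocalization.Away (τ (φ p) (d p)) (Localization.Away (d p)) := by
      refine ⟨⟨?_, ?_, ?_⟩⟩
      · rintro ⟨_, n, rfl⟩
        show IsUnit (algebraMap R _ (τ (φ p) (d p) ^ n))
        rw [map_pow, ← key]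
        exact (IsLocalization.Away.algebraMap_isUnit (d p)).pow n
      · intro z
        obtain ⟨⟨x, _, n, rfl⟩, hx⟩ := IsLocalization.surj (Submonoid.powers (d p)) z
        refine ⟨⟨τ (φ p) x, _, n, rfl⟩, ?_⟩
        show z * algebraMap R _ (τ (φ p) (d p) ^ n) = algebraMap R _ (τ (φ p) x)
        rw [map_pow, ← key, ← key, ← map_pow]
        exact hx
      · intro r r' h
        rw [IsScalarTower.algebraMap_apply R D, IsScalarTower.algebraMap_apply R D (Localization.Away (d p)) r'] at h
        obtain ⟨⟨_, n, rfl⟩, hn⟩ := IsLocalization.exists_of_eq (M := Submonoid.powers (d p)) h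
        refine ⟨⟨_, n, rfl⟩, ?_⟩
        have := congrArg (τ (φ p)) hn
        simpa [map_mul, map_pow] using this
    exact Algebra.Etale.of_isLocalizationAway (τ (φ p) (d p))
  have hpre : ∀ q : s, ∃ p, d p = q.1 := fun q => hs.1 q.2
  choose pq hpq using hpre
  haveI : LocallyOfFiniteType (pullback.snd A.hom β) :=
    MorphismProperty.pullback_snd (P := @LocallyOfFiniteType) _ _ inferInstance
  have hft : ρ.hom.FiniteType := by
    rw [← HasRingHomProperty.Spec_iff (P := @LocallyOfFiniteType), hρ]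
    infer_instance
  haveI : Algebra.FiniteType R D := hft
  haveI hint : Algebra.IsIntegral R D := ⟨fun x => by
    refine ⟨∏ q : s, (Polynomial.X - Polynomial.C (τ (φ (pq q)) x)),
      Polynomial.monic_prod_of_monic _ _ fun p _ => Polynomial.monic_X_sub_C _, ?_⟩
    rw [Polynomial.eval₂_finsetProd]
    simp only [Polynomial.eval₂_sub, Polynomial.eval₂_X, Polynomial.eval₂_C]
    set z := ∏ q : s, (x - algebraMap R D (τ (φ (pq q)) x)) with hz
    suffices h : (1 : D) ∈ LinearMap.ker (LinearMap.mulRight D z) by simpa using h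
    rw [← Ideal.eq_top_iff_one, ← Ideal.radical_eq_top, eq_top_iff, ← hs.2, Ideal.span_le]
    intro r hr
    obtain ⟨⟨_, n, rfl⟩, hn⟩ : ∃ m : Submonoid.powers r, (m : D) * z = 0 := by
      refine (IsLocalization.map_eq_zero_iff _ (Localization.Away r) z).mp ?_
      rw [hz, map_prod]
      refine Finset.prod_eq_zero (Finset.mem_univ ⟨r, hr⟩) ?_
      have h := key (pq ⟨r, hr⟩) x
      rw [hpq ⟨r, hr⟩] at h
      rw [map_sub, ← IsScalarTower.algebraMap_apply, h, sub_self]
    exact ⟨n, hn⟩⟩
  have hfin : IsFinite (Spec.map ρ) := by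
    rw [IsFinite.SpecMap_iff]
    exact RingHom.finite_algebraMap.mpr (Algebra.IsIntegral.finite (R := R) (A := D))
  have het : Etale (Spec.map ρ) := by
    rw [HasRingHomProperty.Spec_iff (P := @Etale)]
    refine RingHom.Etale.propertyIsLocal.ofLocalizationSpanTarget _ _ hs.2 fun r => ?_
    have h := hlocEt (pq ⟨r.1, r.2⟩)
    rw [hpq] at h
    exact RingHom.etale_algebraMap.mpr h |> fun h => by
      rwa [IsScalarTower.algebraMap_eq R D] at h
  have e : pullback.snd A.hom β = P.isoSpec.hom ≫ Spec.map ρ := by rw [hρ, Iso.hom_inv_id_assoc]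
  rw [e]
  exact ⟨inferInstance, inferInstance⟩

end Groth.Agent.HomScheme
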